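import Groth.Agent.AlgSpCov.GeomConn.Map
import Groth.Agent.FBase.BC2
import Groth.Agent.VarBC.Conn

/-!
# Geometric connectedness of algebraic spaces over a field

* `fst_fibres`: over a separably closed field, `|X_K| ⟶ |X|` is open with connected fibres;
* `snd_fibres`: for `X` geometrically connected, `|X × Y| ⟶ |Y|` likewise;
* `connectedSpace_sepClosure_of_stages`: connectedness of all finite separable stages gives it for `k^sep`.
-/

set_option autoImplicit false
set_option backward.isDefEq.respectTransparency false

universe u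

open CategoryTheory CategoryTheory.Limits AlgebraicGeometry Topology

namespace Groth.Agent.AlgSpCov.GeomConn

open Groth.Agent
open _root_.AlgSp

theorem connectedSpace_of_fibres {α β : Type*} [TopologicalSpace α] [TopologicalSpace β] {f : α → β}
    (hc : Continuous f) (ho : IsOpenMap f) (hf : ∀ y, IsConnected (f ⁻¹' {y})) [h : ConnectedSpace β] :
    ConnectedSpace α := by
  have hs : Function.Surjective f := fun y => (hf y).nonempty
  have hq := (ho.isQuotientMap hc hs).isCoinducing
  rw [connectedSpace_iff_univ, ← Set.preimage_univ (f := f)]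
  exact hq.isConnected_preimage_of_isClosed hf isClosed_univ isConnected_univ

theorem connectedSpace_of_surjective {α β : Type*} [TopologicalSpace α] [TopologicalSpace β] {f : α → β}
    (hc : Continuous f) (hs : Function.Surjective f) [ConnectedSpace α] : ConnectedSpace β :=
  { toPreconnectedSpace := hs.denseRange.preconnectedSpace hc
    toNonempty := ⟨f (Classical.arbitrary α)⟩ }

variable {k : Type u} [Field k]

/-- `Spec K` over `k`. -/
noncomputable abbrev KT (k K : Type u) [Field k] [Field K] [Algebra k K] : Over (Spec (CommRingCat.of k)) :=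
  Over.mk (Spec.map (CommRingCat.ofHom (algebraMap k K)))

/-- The morphism of a tower of fields. -/
noncomputable abbrev towerHom (k K L : Type u) [Field k] [Field K] [Field L] [Algebra k K] [Algebra k L]
    [Algebra K L] [IsScalarTower k K L] : KT k L ⟶ KT k K :=
  Over.homMk (Spec.map (CommRingCat.ofHom (algebraMap K L))) FBase.BC2.specMap_comp

variable (X : Space (Spec (CommRingCat.of k)))

section Tower

variable (K L : Type u) [Field K] [Field L] [Algebra k K] [Algebra k L] [Algebra K L] [IsScalarTower k K L]

theorem surjective_tower : Function.Surjective (Points.map (prodM X.obj (towerHom k K L))) :=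
  have : Surjective (towerHom k K L).left := FBase.BC.surjective_specMap (k := K) (K := L)
  surjective_prodM X _

theorem isOpenMap_tower : IsOpenMap (Points.map (prodM X.obj (towerHom k K L))) :=
  have : UniversallyOpen (towerHom k K L).left :=
    inferInstanceAs (UniversallyOpen (Spec.map (CommRingCat.ofHom (algebraMap K L))))
  isOpenMap_prodM X _

theorem connectedSpace_down [ConnectedSpace (Points (X.obj ⨯ (yon (Spec (CommRingCat.of k))).obj (KT k L)))] :
    ConnectedSpace (Points (X.obj ⨯ (yon (Spec (CommRingCat.of k))).obj (KT k K))) :=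
  connectedSpace_of_surjective (Points.continuous_map _) (surjective_tower X K L)

theorem connectedSpace_up [IsSepClosed K] [ConnectedSpace (Points (X.obj ⨯ (yon (Spec (CommRingCat.of k))).obj (KT k K)))] :
    ConnectedSpace (Points (X.obj ⨯ (yon (Spec (CommRingCat.of k))).obj (KT k L))) :=
  have : GeometricallyConnected (towerHom k K L).left := FBase.BC.geometricallyConnected_specMap_of_isSepClosed
  connectedSpace_of_fibres (Points.continuous_map _) (isOpenMap_tower X K L) (isConnected_fibre_prodM X _)

end Tower

/-- A common extension. -/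
theorem exists_common (k K L : Type u) [Field k] [Field K] [Field L] [Algebra k K] [Algebra k L] :
    ∃ (Ω : Type u) (_ : Field Ω) (_ : Algebra k Ω) (_ : Algebra K Ω) (_ : Algebra L Ω),
      IsScalarTower k K Ω ∧ IsScalarTower k L Ω := by
  obtain ⟨m, hm⟩ := Ideal.exists_maximal (TensorProduct k K L)
  let Ω := TensorProduct k K L ⧸ m
  letI : Field Ω := Ideal.Quotient.field m
  let i : K →ₐ[k] Ω := (Ideal.Quotient.mkₐ k m).comp Algebra.TensorProduct.includeLeft
  let j : L →ₐ[k] Ω := (Ideal.Quotient.mkₐ k m).comp Algebra.TensorProduct.includeRight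
  exact ⟨Ω, inferInstance, inferInstance, i.toRingHom.toAlgebra, j.toRingHom.toAlgebra,
    IsScalarTower.of_algHom i, IsScalarTower.of_algHom j⟩

theorem connectedSpace_of_sepClosed (L : Type u) [Field L] [Algebra k L] [IsSepClosed L]
    [ConnectedSpace (Points (X.obj ⨯ (yon (Spec (CommRingCat.of k))).obj (KT k L)))] (K : Type u) [Field K] [Algebra k K] :
    ConnectedSpace (Points (X.obj ⨯ (yon (Spec (CommRingCat.of k))).obj (KT k K))) := by
  obtain ⟨Ω, _, _, _, _, _, _⟩ := exists_common k K L
  have := connectedSpace_up X L Ω
  exact connectedSpace_down X K Ω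

section Fst

variable (K : Type u) [Field K] [Algebra k K]

theorem isOpenMap_fst :
    IsOpenMap (Points.map (Limits.prod.fst : X.obj ⨯ (yon (Spec (CommRingCat.of k))).obj (KT k K) ⟶ X.obj)) := by
  have : UniversallyOpen (toBase (KT k K)).left :=
    inferInstanceAs (UniversallyOpen (Spec.map (CommRingCat.ofHom (algebraMap k K))))
  rw [map_fst_eq_homeo]
  exact (fstHomeo X).isOpenMap.comp (isOpenMap_prodM X _)

theorem surjective_fst :
    Function.Surjective (Points.map (Limits.prod.fst : X.obj ⨯ (yon (Spec (CommRingCat.of k))).obj (KT k K) ⟶ X.obj)) := by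
  have : Surjective (toBase (KT k K)).left := FBase.BC.surjective_specMap (k := k) (K := K)
  rw [map_fst_eq_homeo]
  exact (fstHomeo X).surjective.comp (surjective_prodM X _)

theorem isConnected_fibre_fst [IsSepClosed k] (x : Points X.obj) :
    IsConnected (Points.map (Limits.prod.fst : X.obj ⨯ (yon (Spec (CommRingCat.of k))).obj (KT k K) ⟶ X.obj) ⁻¹' {x}) := by
  have : GeometricallyConnected (toBase (KT k K)).left :=
    FBase.BC.geometricallyConnected_specMap_of_isSepClosed
  rw [map_fst_eq_homeo, Set.preimage_comp]
  obtain ⟨z, rfl⟩ := (fstHomeo X).surjective x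
  rw [← Set.image_singleton, Set.preimage_image_eq _ (fstHomeo X).injective]
  exact isConnected_fibre_prodM X _ z

end Fst

/-- Geometrically connected. -/
def GC (X : Sp (Spec (CommRingCat.of k))) : Prop :=
  ∀ (K : Type u) [Field K] [Algebra k K], ConnectedSpace (Points (X ⨯ (yon (Spec (CommRingCat.of k))).obj (KT k K)))

theorem connected_of_gc {X : Sp (Spec (CommRingCat.of k))} (hX : GC X) {K : Type u} [Field K] (σ : Spec (CommRingCat.of K) ⟶ Spec (CommRingCat.of k)) :
    ConnectedSpace (Points (X ⨯ (yon (Spec (CommRingCat.of k))).obj (Over.mk σ))) := by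
  obtain ⟨φ, rfl⟩ := Spec.map_surjective σ
  letI : Algebra k K := φ.hom.toAlgebra
  exact hX K

variable {X} (Y : Space (Spec (CommRingCat.of k)))

theorem snd_fibres (hX : GC X.obj) :
    IsOpenMap (Points.map (Limits.prod.snd : X.obj ⨯ Y.obj ⟶ Y.obj)) ∧
      ∀ y, IsConnected (Points.map (Limits.prod.snd : X.obj ⨯ Y.obj ⟶ Y.obj) ⁻¹' {y}) := by
  obtain ⟨V, b, hb, hbs⟩ := Y.property.atlas
  obtain ⟨U, a, ha, has⟩ := X.property.atlas
  constructor
  · intro O hO
    rw [← (AlgSpB.isOpenQuotientMap_ofPt hb hbs).isQuotientMap.isOpen_preimage]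
    have key : Points.ofPt b ⁻¹' (Points.map Limits.prod.snd '' O) =
        (qc U V).left '' (Points.ofPt (dc a V ≫ Limits.prod.map (𝟙 X.obj) b) ⁻¹' O) := by
      ext v
      constructor
      · rintro ⟨z, hz, e⟩
        rw [Points.ofPt_eq_map_ofScheme] at e
        obtain ⟨z', hz1, hz2⟩ := AlgSpB.exists_of_isPullback (prodMap_isPullback_snd X.obj b) z (Points.ofScheme _ v) e
        obtain ⟨w, rfl⟩ := AlgSpB.surjective_ofPt (repWith_dc has V) z'
        rw [Points.map_ofPt] at hz1 hz2
        refine ⟨w, by rw [Set.mem_preimage, hz1]; exact hz, ?_⟩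
        rw [Limits.prod.lift_snd, Points.ofPt_eq_map_ofScheme] at hz2
        exact (Points.schemeHomeo _).injective ((Points.map_yon_map_apply _ w).symm.trans hz2)
      · rintro ⟨w, hw, rfl⟩
        refine ⟨_, hw, ?_⟩
        rw [Points.map_ofPt, Category.assoc, Limits.prod.map_snd, prod.lift_snd_assoc, AlgSpB.ofPt_map_comp]
    rw [key]
    have : UniversallyOpen (qc U V).left :=
      inferInstanceAs (UniversallyOpen (pullback.snd U.hom V.hom))
    exact (qc U V).left.isOpenMap _ (hO.preimage (Points.continuous_ofPt _))
  · intro y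
    obtain ⟨p, hp⟩ := AlgSpB.exists_eq_ofPt_toHom y
    have := connected_of_gc hX p.str
    let M : X.obj ⨯ (yon (Spec (CommRingCat.of k))).obj p.pt ⟶ X.obj ⨯ Y.obj := Limits.prod.map (𝟙 _) p.toHom
    have hsnd : ∀ t : Points ((yon (Spec (CommRingCat.of k))).obj p.pt), Points.map p.toHom t = y := fun t => by
      rw [← Points.ofScheme_toScheme _ t, ← Points.ofPt_eq_map_ofScheme, hp]
    have : Points.map (Limits.prod.snd : X.obj ⨯ Y.obj ⟶ Y.obj) ⁻¹' {y} = Set.range (Points.map M) := by
      ext z
      constructor
      · intro hz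
        obtain ⟨z', hz', -⟩ := AlgSpB.exists_of_isPullback (prodMap_isPullback_snd X.obj p.toHom) z
          (Points.ofScheme _ (IsLocalRing.closedPoint p.K)) (hz.trans (hsnd _).symm)
        exact ⟨z', hz'⟩
      · rintro ⟨z', rfl⟩
        rw [Set.mem_preimage, Set.mem_singleton_iff, ← Points.map_comp, Limits.prod.map_snd, Points.map_comp]
        exact hsnd _
    rw [this]
    exact isConnected_range (Points.continuous_map M)

variable (X)

theorem isTower (K : Type u) [Field K] [Algebra k K] [Algebra.IsAlgebraic k K] :
    VarBC.TowerTop.IsTower (X := Points X.obj) (Y := Points (X.obj ⨯ (yon (Spec (CommRingCat.of k))).obj (KT k K)))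
      (Z := fun E : VarBC.Stage k K => Points (X.obj ⨯ (yon (Spec (CommRingCat.of k))).obj (KT k E.1)))
      (Points.map Limits.prod.fst) (fun E => Points.map (prodM X.obj (towerHom k E.1 K)))
      (fun _ => Points.map Limits.prod.fst) := by
  have hfin : ∀ E : VarBC.Stage k K, IsFinite (toBase (KT k E.1)).left := fun E => by
    have := E.2
    exact (IsFinite.SpecMap_iff _).mpr (RingHom.finite_algebraMap.mpr inferInstance)
  have hcl : ∀ E : VarBC.Stage k K, UniversallyClosed (toBase (KT k E.1)).left := fun E => by
    have := hfin E; infer_instance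
  have hint : ∀ E : VarBC.Stage k K, IsIntegralHom (towerHom k E.1 K).left := fun E => by
    have : Algebra.IsAlgebraic E.1 K := Algebra.IsAlgebraic.tower_top (K := k) E.1
    exact FBase.BC2.isIntegralHom_specMap (k := E.1) (K := K)
  refine
    { continuous_π := Points.continuous_map _
      continuous_q := fun E => Points.continuous_map _
      isOpenMap_q := fun E => isOpenMap_tower X E.1 K
      isClosedMap_q := fun E => have := hint E; isClosedMap_prodM X _
      surjective_q := fun E => surjective_tower X E.1 K
      isCompact_fibre_q := fun E z => have := hint E; isCompact_fibre_prodM X _ z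
      continuous_p := fun E => Points.continuous_map _
      isOpenMap_p := fun E => isOpenMap_fst X E.1
      isClosedMap_p := fun E => ?_
      surjective_p := fun E => surjective_fst X E.1
      finite_fibre_p := fun E x => ?_
      fac := fun E z => ?_
      directed := fun E F => ?_
      separated := fun A B hA hB hd x => ?_ }
  · have := hcl E
    rw [map_fst_eq_homeo]
    exact (fstHomeo X).isClosedMap.comp (isClosedMap_prodM X _)
  · have := hfin E
    obtain ⟨z, rfl⟩ := (fstHomeo X).surjective x
    rw [map_fst_eq_homeo, Set.preimage_comp, ← Set.image_singleton,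
      Set.preimage_image_eq _ (fstHomeo X).injective]
    exact finite_fibre_prodM X _ z
  · rw [← Points.map_comp, Limits.prod.map_fst, Category.comp_id]
  · have := E.2
    have := F.2
    have key : ∀ (A B : IntermediateField k K) (h : A ≤ B) (a b : Points (X.obj ⨯ (yon (Spec (CommRingCat.of k))).obj (KT k K))),
        Points.map (prodM X.obj (towerHom k B K)) a = Points.map (prodM X.obj (towerHom k B K)) b →
          Points.map (prodM X.obj (towerHom k A K)) a = Points.map (prodM X.obj (towerHom k A K)) b := by
      intro A B h a b e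
      letI := (IntermediateField.inclusion h).toRingHom.toAlgebra
      have : IsScalarTower k A B := IsScalarTower.of_algHom (IntermediateField.inclusion h)
      have e' : towerHom k B K ≫ towerHom k A B = towerHom k A K := by
        apply Over.OverMorphism.ext
        change Spec.map _ ≫ Spec.map _ = Spec.map _
        rw [← Spec.map_comp, ← CommRingCat.ofHom_comp]
        rfl
      have e'' : prodM X.obj (towerHom k A K) = prodM X.obj (towerHom k B K) ≫ prodM X.obj (towerHom k A B) := by
        rw [Limits.prod.map_map, Category.id_comp, ← Functor.map_comp, e']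
      rw [e'', Points.map_comp, Points.map_comp, e]
    exact ⟨⟨E.1 ⊔ F.1, inferInstance⟩, key _ _ le_sup_left, key _ _ le_sup_right⟩
  · obtain ⟨U, a, ha, has⟩ := X.property.atlas
    obtain ⟨u, rfl⟩ := AlgSpB.surjective_ofPt has x
    obtain ⟨Wo, hWo, huW, E, hE⟩ := VarBC.exists_separated U.hom
      (Points.ofPt (dc a (KT k K)) ⁻¹' A) (Points.ofPt (dc a (KT k K)) ⁻¹' B)
      (hA.preimage (Points.continuous_ofPt _)) (hB.preimage (Points.continuous_ofPt _)) (hd.preimage _) u
    refine ⟨Points.ofPt a '' Wo, AlgSpB.isOpenMap_ofPt ha _ hWo, ⟨u, huW, rfl⟩, E, ?_⟩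
    rintro z hzA ⟨u₁, hu₁, hz⟩ z' hzB e
    rw [Points.ofPt_eq_map_ofScheme] at hz
    obtain ⟨w, hw1, hw2⟩ := AlgSpB.exists_of_isPullback (isPullback_dc a (KT k K)).flip z (Points.ofScheme _ u₁)
      hz.symm
    obtain ⟨w, rfl⟩ : ∃ w', Points.ofScheme _ w' = w := (Points.schemeHomeo _).surjective w
    rw [← Points.ofPt_eq_map_ofScheme] at hw1
    have hpw : (pc U (KT k K)).left w = u₁ :=
      (Points.schemeHomeo _).injective ((Points.map_yon_map_apply _ w).symm.trans hw2)
    subst hw1
    rw [Points.map_ofPt, ← (isPullback_rc a _).w, AlgSpB.ofPt_map_comp] at e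
    obtain ⟨w', hw', rfl⟩ := (preimage_singleton_dc a (towerHom k E.1 K) _).le
      (show z' ∈ _ ⁻¹' {_} from e.symm)
    refine hE w hzA ?_ w' hzB ?_
    · change (pc U (KT k K)).left w ∈ Wo
      rw [hpw]; exact hu₁
    · exact hw'.symm

/-- All finite separable stages connected implies the separable closure connected. -/
theorem connectedSpace_sepClosure_of_stages
    (h : ∀ (k' : Type u) [Field k'] [Algebra k k'], Module.Finite k k' → Algebra.IsSeparable k k' →
      ConnectedSpace (Points (X.obj ⨯ (yon (Spec (CommRingCat.of k))).obj (KT k k')))) :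
    ConnectedSpace (Points (X.obj ⨯ (yon (Spec (CommRingCat.of k))).obj (KT k (SeparableClosure k)))) := by
  have := h k inferInstance inferInstance
  have : ConnectedSpace (Points X.obj) :=
    connectedSpace_of_surjective (Points.continuous_map _) (surjective_fst X k)
  have : ∀ E : VarBC.Stage k (SeparableClosure k),
      PreconnectedSpace (Points (X.obj ⨯ (yon (Spec (CommRingCat.of k))).obj (KT k E.1))) := fun E => (h E.1 E.2 inferInstance).toPreconnectedSpace
  have := VarBC.TowerTop.preconnectedSpace (isTower X (SeparableClosure k))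
  obtain ⟨z, -⟩ := surjective_fst X (SeparableClosure k) (Classical.arbitrary _)
  exact { toNonempty := ⟨z⟩ }

end Groth.Agent.AlgSpCov.GeomConn
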