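import Groth.Agent.AlgSpCov.GeomConn.Field
import Groth.Agent.VarBC.Galois
import Mathlib.FieldTheory.KrullTopology

/-!
# Galois action on `|X_K|` and descent of quasi-compact opens to finite stages
-/

set_option autoImplicit false
set_option backward.isDefEq.respectTransparency false

universe u

open CategoryTheory CategoryTheory.Limits AlgebraicGeometry Topology

namespace Groth.Agent.AlgSpCov.GeomConn

open Groth.Agent
open _root_.AlgSp
open scoped TensorProduct

variable {k : Type u} [Field k] {K : Type u} [Field K] [Algebra k K]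

/-- The morphism of `Spec K` given by an automorphism. -/
noncomputable abbrev galHom (σ : K ≃ₐ[k] K) : KT k K ⟶ KT k K :=
  Over.homMk (Spec.map (CommRingCat.ofHom (σ : K →ₐ[k] K).toRingHom)) (by
    change Spec.map _ ≫ Spec.map _ = Spec.map _
    rw [← Spec.map_comp, ← CommRingCat.ofHom_comp, AlgHom.toRingHom_eq_coe, AlgHom.comp_algebraMap])

theorem eq_galHom (σ : K ≃ₐ[k] K) (g : KT k K ⟶ KT k K)
    (hg : g.left = Spec.map (CommRingCat.ofHom (σ : K ≃ₐ[k] K).toRingHom)) : g = galHom σ :=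
  Over.OverMorphism.ext hg

theorem galHom_symm (σ : K ≃ₐ[k] K) : galHom σ ≫ galHom σ.symm = 𝟙 _ := by
  apply Over.OverMorphism.ext
  change Spec.map _ ≫ Spec.map _ = 𝟙 _
  rw [← Spec.map_comp, ← CommRingCat.ofHom_comp,
    show (σ : K →ₐ[k] K).toRingHom.comp (σ.symm : K →ₐ[k] K).toRingHom = RingHom.id K from
      RingHom.ext fun x => σ.apply_symm_apply x, CommRingCat.ofHom_id, Spec.map_id]

variable (X : Space (Spec (CommRingCat.of k)))

/-- The action on points. -/
noncomputable abbrev galPts (σ : K ≃ₐ[k] K) :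
    Points (X.obj ⨯ (yon (Spec (CommRingCat.of k))).obj (KT k K)) →
      Points (X.obj ⨯ (yon (Spec (CommRingCat.of k))).obj (KT k K)) :=
  Points.map (prodM X.obj (galHom σ))

theorem galPts_symm (σ : K ≃ₐ[k] K) (z) : galPts X σ.symm (galPts X σ z) = z := by
  change Points.map _ (Points.map _ z) = z
  rw [← Points.map_comp, Limits.prod.map_map, Category.id_comp, ← Functor.map_comp, galHom_symm,
    CategoryTheory.Functor.map_id, Limits.prod.map_id_id, Points.map_id]

theorem exists_galPts_eq [Normal k K] {z z' : Points (X.obj ⨯ (yon (Spec (CommRingCat.of k))).obj (KT k K))}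
    (h : Points.map Limits.prod.fst z = Points.map Limits.prod.fst z') : ∃ σ : K ≃ₐ[k] K, galPts X σ z = z' := by
  obtain ⟨U, a, ha, has⟩ := X.property.atlas
  obtain ⟨u, hu⟩ := AlgSpB.surjective_ofPt has (Points.map Limits.prod.fst z)
  have lift : ∀ y, Points.map Limits.prod.fst y = Points.ofPt a u →
      ∃ w : ↥(Wc U (KT k K)).left, (pc U (KT k K)).left w = u ∧ Points.ofPt (dc a (KT k K)) w = y := by
    intro y hy
    rw [Points.ofPt_eq_map_ofScheme] at hy
    obtain ⟨w, hw1, hw2⟩ := AlgSpB.exists_of_isPullback (isPullback_dc a (KT k K)).flip y (Points.ofScheme _ u) hy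
    obtain ⟨w, rfl⟩ : ∃ w', Points.ofScheme _ w' = w := (Points.schemeHomeo _).surjective w
    rw [← Points.ofPt_eq_map_ofScheme] at hw1
    exact ⟨w, (Points.schemeHomeo _).injective ((Points.map_yon_map_apply _ w).symm.trans hw2), hw1⟩
  obtain ⟨w, hwu, hwz⟩ := lift z hu.symm
  obtain ⟨w', hwu', hwz'⟩ := lift z' (h.symm.trans hu.symm)
  letI : U.left.Over (Spec (CommRingCat.of k)) := ⟨U.hom⟩
  obtain ⟨σ, hσ⟩ := VarBC.exists_galAct_eq (K := K) (X := U.left) (a := w) (b := w') (hwu.trans hwu'.symm)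
  refine ⟨σ, ?_⟩
  have e : (rc U (galHom σ)).left = Curv2.galAct k U.left K σ := rfl
  rw [← hwz, ← hwz', galPts, Points.map_ofPt, ← (isPullback_rc a (galHom σ)).w, AlgSpB.ofPt_map_comp, e]
  exact congrArg _ hσ

theorem isClosed_image_fst [Algebra.IsAlgebraic k K]
    {T : Set (Points (X.obj ⨯ (yon (Spec (CommRingCat.of k))).obj (KT k K)))} (hT : IsClosed T) :
    IsClosed (Points.map Limits.prod.fst '' T) := by
  have : IsIntegralHom (toBase (KT k K)).left := FBase.BC2.isIntegralHom_specMap (k := k) (K := K)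
  rw [map_fst_eq_homeo, Set.image_comp]
  exact (fstHomeo X).isClosedMap _ (isClosedMap_prodM X _ _ hT)

/-- Near a point of an open subset of `X ⊗ K`, a finite stage suffices. -/
theorem exists_stage_nbhd_scheme [Algebra.IsAlgebraic k K] {Y : Scheme.{u}} (f : Y ⟶ Spec (CommRingCat.of k))
    {O : Set ↥(pullback f (FBase.BC.specMap k K))} (hO : IsOpen O) {a : ↥(pullback f (FBase.BC.specMap k K))}
    (ha : a ∈ O) :
    ∃ O', IsOpen O' ∧ a ∈ O' ∧ O' ⊆ O ∧ ∃ E : VarBC.Stage k K, ∀ b c,
      FBase.BC2.bcMap f (K := E.1) (L := K) b = FBase.BC2.bcMap f (K := E.1) (L := K) c → b ∈ O' → c ∈ O' := by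
  obtain ⟨A, _, _, j, p, _, hp, hj⟩ := FBase.PointScheme.exists_chart f (pullback.fst f (FBase.BC.specMap k K) a)
  let c := FBase.PointScheme.bcChart f j K hj
  have hr := FBase.PointScheme.range_bcChart f j K hj
  obtain ⟨P, rfl⟩ : a ∈ Set.range c := hr.ge ⟨p, hp⟩
  obtain ⟨_, ⟨z, rfl⟩, hzP, hzO⟩ :=
    PrimeSpectrum.isTopologicalBasis_basic_opens.exists_subset_of_mem_open (show P ∈ c ⁻¹' O from ha)
      (hO.preimage c.continuous)
  obtain ⟨E, hE⟩ := VarBC.exists_stage_tensor z
  let D : Set (PrimeSpectrum (A ⊗[k] K)) := ↑(PrimeSpectrum.basicOpen z)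
  refine ⟨c '' D, c.isOpenEmbedding.isOpenMap _ (PrimeSpectrum.basicOpen z).isOpen,
    ⟨P, hzP, rfl⟩, (Set.image_mono (show D ⊆ c ⁻¹' O from hzO)).trans (Set.image_preimage_subset _ _), E, ?_⟩
  rintro _ d he ⟨Q, hQ, rfl⟩
  have hdW : pullback.fst f (FBase.BC.specMap k K) d ∈ Set.range j := by
    rw [← FBase.BC2.bcMap_fst f (K := E.1) (L := K), Scheme.Hom.comp_apply, ← he, ← Scheme.Hom.comp_apply,
      FBase.BC2.bcMap_fst]
    exact hr.le ⟨Q, rfl⟩
  obtain ⟨R, rfl⟩ : d ∈ Set.range c := hr.ge hdW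
  refine ⟨R, ?_, rfl⟩
  have hfm : c ≫ FBase.BC2.bcMap f (K := E.1) (L := K) =
      Spec.map (CommRingCat.ofHom (Algebra.TensorProduct.map (AlgHom.id k A)
        E.1.val).toRingHom) ≫ FBase.PointScheme.bcChart f j E.1 hj := by
    refine pullback.hom_ext ?_ ?_
    · rw [Category.assoc, Category.assoc, FBase.BC2.bcMap_fst]
      erw [FBase.PointScheme.bcChart_fst, FBase.PointScheme.bcChart_fst]
      rw [← Category.assoc, ← Spec.map_comp, ← CommRingCat.ofHom_comp]
      congr 3
    · rw [Category.assoc, Category.assoc, FBase.BC2.bcMap_snd]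
      erw [FBase.Components.bcChart_snd, reassoc_of% FBase.Components.bcChart_snd f K j hj]
      simp only [FBase.BC.specMap, ← Spec.map_comp, ← CommRingCat.ofHom_comp]
      congr 2
  rw [← Scheme.Hom.comp_apply, ← Scheme.Hom.comp_apply, hfm, Scheme.Hom.comp_apply, Scheme.Hom.comp_apply] at he
  have hPQ := congrArg PrimeSpectrum.asIdeal ((FBase.PointScheme.bcChart f j E.1 hj).isOpenEmbedding.injective he)
  change Q.asIdeal.comap (Algebra.TensorProduct.map (AlgHom.id k A) E.1.val) =
    R.asIdeal.comap (Algebra.TensorProduct.map (AlgHom.id k A) E.1.val) at hPQ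
  obtain ⟨z₀, hz₀⟩ := hE E.1 le_rfl
  have hQ' : z ∉ Q.asIdeal := hQ
  show z ∉ R.asIdeal
  rw [← hz₀] at hQ' ⊢
  exact fun h => hQ' (Ideal.mem_comap.1 (hPQ.ge (Ideal.mem_comap.2 h)))

/-- Two points equal at a bigger stage are equal at a smaller one. -/
theorem stage_factor {A B : IntermediateField k K} (h : A ≤ B)
    {a b : Points (X.obj ⨯ (yon (Spec (CommRingCat.of k))).obj (KT k K))}
    (e : Points.map (prodM X.obj (towerHom k B K)) a = Points.map (prodM X.obj (towerHom k B K)) b) :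
    Points.map (prodM X.obj (towerHom k A K)) a = Points.map (prodM X.obj (towerHom k A K)) b := by
  letI := (IntermediateField.inclusion h).toRingHom.toAlgebra
  have : IsScalarTower k A B := IsScalarTower.of_algHom (IntermediateField.inclusion h)
  have e' : towerHom k B K ≫ towerHom k A B = towerHom k A K := by
    apply Over.OverMorphism.ext
    change Spec.map _ ≫ Spec.map _ = Spec.map _
    rw [← Spec.map_comp, ← CommRingCat.ofHom_comp]
    rfl
  have e'' : prodM X.obj (towerHom k A K) = prodM X.obj (towerHom k B K) ≫ prodM X.obj (towerHom k A B) := by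
    rw [Limits.prod.map_map, Category.id_comp, ← Functor.map_comp, e']
  rw [e'', Points.map_comp, Points.map_comp, e]

/-- A quasi-compact open of `|X_K|` is a preimage from a finite stage. -/
theorem exists_stage_open [Algebra.IsAlgebraic k K]
    {V : Set (Points (X.obj ⨯ (yon (Spec (CommRingCat.of k))).obj (KT k K)))} (hV : IsOpen V) (hVc : IsCompact V) :
    ∃ (E : IntermediateField k K) (_ : FiniteDimensional k E)
      (V' : Set (Points (X.obj ⨯ (yon (Spec (CommRingCat.of k))).obj (KT k E)))), IsOpen V' ∧ IsCompact V' ∧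
        Points.map (prodM X.obj (towerHom k E K)) ⁻¹' V' = V := by
  classical
  have hloc : ∀ z ∈ V, ∃ O, IsOpen O ∧ z ∈ O ∧ O ⊆ V ∧ ∃ E : VarBC.Stage k K, ∀ b c,
      Points.map (prodM X.obj (towerHom k E.1 K)) b = Points.map (prodM X.obj (towerHom k E.1 K)) c →
        b ∈ O → c ∈ O := by
    intro z hz
    obtain ⟨U, a, w, ha, rfl⟩ := exists_dc X z
    obtain ⟨O', hO', hwO', hsub, E, hE⟩ := exists_stage_nbhd_scheme U.hom
      (O := Points.ofPt (dc a (KT k K)) ⁻¹' V) (hV.preimage (Points.continuous_ofPt _)) (a := w) hz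
    refine ⟨Points.ofPt (dc a (KT k K)) '' O', AlgSpB.isOpenMap_ofPt (repWith_dc ha _) _ hO', ⟨w, hwO', rfl⟩,
      Set.image_subset_iff.2 hsub, E, ?_⟩
    rintro _ c e ⟨w₁, hw₁, rfl⟩
    rw [Points.map_ofPt, ← (isPullback_rc a _).w, AlgSpB.ofPt_map_comp] at e
    obtain ⟨w', hw', rfl⟩ := (preimage_singleton_dc a (towerHom k E.1 K) _).le
      (show c ∈ _ ⁻¹' {_} from e.symm)
    exact ⟨w', hE _ _ hw'.symm hw₁, rfl⟩
  choose! O hOo hzO hOV E hE using hloc
  obtain ⟨t, htV, htc⟩ := hVc.elim_finite_subcover_image hOo (fun z hz => Set.mem_biUnion hz (hzO z hz))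
  let F : IntermediateField k K := ⨆ z ∈ htc.1.toFinset, (E z).1
  have hF : FiniteDimensional k F := by
    have : ∀ z, FiniteDimensional k (E z).1 := fun z => (E z).2
    infer_instance
  refine ⟨F, hF, _, isOpenMap_tower X F K _ hV, hVc.image (Points.continuous_map _), ?_⟩
  refine subset_antisymm ?_ (Set.subset_preimage_image _ _)
  rintro z ⟨y, hy, e⟩
  obtain ⟨i, hi, hyi⟩ := Set.mem_iUnion₂.1 (htc.2 hy)
  have hle : (E i).1 ≤ F := le_iSup₂_of_le i (htc.1.mem_toFinset.2 hi) le_rfl
  exact hOV i (htV hi) (hE i (htV hi) y z (stage_factor X hle e) hyi)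

theorem galPts_image_of_fixing {E : IntermediateField k K} (σ : K ≃ₐ[k] K) (hσ : σ ∈ E.fixingSubgroup)
    (V' : Set (Points (X.obj ⨯ (yon (Spec (CommRingCat.of k))).obj (KT k E)))) :
    galPts X σ '' (Points.map (prodM X.obj (towerHom k E K)) ⁻¹' V') =
      Points.map (prodM X.obj (towerHom k E K)) ⁻¹' V' := by
  have key : ∀ τ ∈ E.fixingSubgroup, ∀ z,
      Points.map (prodM X.obj (towerHom k E K)) (galPts X τ z) = Points.map (prodM X.obj (towerHom k E K)) z := by
    intro τ hτ z
    have e : galHom τ ≫ towerHom k E K = towerHom k E K := by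
      apply Over.OverMorphism.ext
      change Spec.map _ ≫ Spec.map _ = Spec.map _
      rw [← Spec.map_comp, ← CommRingCat.ofHom_comp]
      congr 2
      ext x
      exact hτ x
    rw [← Points.map_comp, Limits.prod.map_map, Category.id_comp, ← Functor.map_comp, e]
  refine subset_antisymm ?_ fun z hz => ⟨galPts X σ.symm z, ?_, ?_⟩
  · rintro _ ⟨z, hz, rfl⟩
    rw [Set.mem_preimage, key σ hσ]
    exact hz
  · rw [Set.mem_preimage, key σ.symm (inv_mem hσ)]
    exact hz
  · simpa using galPts_symm X σ.symm z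

end Groth.Agent.AlgSpCov.GeomConn
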