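import Groth.Agent.AlgSpB.Points
import Groth.Agent.AlgSp.PointsMor
import Groth.Agent.AlgSpCov.Sheaf
import Groth.Agent.AlgSpD.HasAt
import Mathlib.AlgebraicGeometry.Geometrically.Connected
import Mathlib.AlgebraicGeometry.Morphisms.UniversallyOpen
import Mathlib.AlgebraicGeometry.Morphisms.UniversallyClosed

/-!
# Points of `X × h_T` for an algebraic space `X`

* charts `dc`, comparison squares for `X × h_T' ⟶ X × h_T`;
* openness, closedness and fibres of this map read on charts;
* `fst_isHomeomorph`: `|X × h_S| = |X|`.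
-/

set_option autoImplicit false
set_option backward.isDefEq.respectTransparency false

universe u

open CategoryTheory CategoryTheory.Limits AlgebraicGeometry Topology

namespace Groth.Agent.AlgSpCov.GeomConn

open Groth.Agent
open _root_.AlgSp

variable {S : Scheme.{u}}

/-- `yon` of the final object is final. -/
noncomputable def isTerminalYon : IsTerminal ((yon S).obj (Over.mk (𝟙 S))) :=
  Over.mkIdTerminal.isTerminalObj _ _

theorem prod_isPullback (A B : Sp S) :
    IsPullback (Limits.prod.fst : A ⨯ B ⟶ A) Limits.prod.snd (isTerminalYon.from A) (isTerminalYon.from B) :=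
  (IsPullback.of_is_product' (Limits.prodIsProd A B) isTerminalYon).of_iso
    (Iso.refl _) (Iso.refl _) (Iso.refl _) (Iso.refl _) (by simp) (by simp) (isTerminalYon.hom_ext _ _)
    (isTerminalYon.hom_ext _ _)

/-- `X × Y' = (X × Y) ×_Y Y'`. -/
theorem prodMap_isPullback_snd (A : Sp S) {B B' : Sp S} (g : B' ⟶ B) :
    IsPullback (Limits.prod.map (𝟙 A) g) Limits.prod.snd Limits.prod.snd g := by
  refine IsPullback.of_right ?_ (Limits.prod.map_snd _ _) (prod_isPullback A B)
  rw [Limits.prod.map_fst, Category.comp_id, show g ≫ isTerminalYon.from B = isTerminalYon.from B' from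
    isTerminalYon.hom_ext _ _]
  exact prod_isPullback A B'

/-- `X' × Y = (X × Y) ×_X X'`. -/
theorem prodMap_isPullback_fst {A A' : Sp S} (g : A' ⟶ A) (B : Sp S) :
    IsPullback (Limits.prod.map g (𝟙 B)) Limits.prod.fst Limits.prod.fst g := by
  refine IsPullback.of_right ?_ (Limits.prod.map_fst _ _) (prod_isPullback A B).flip
  rw [Limits.prod.map_snd, Category.comp_id, show g ≫ isTerminalYon.from A = isTerminalYon.from A' from
    isTerminalYon.hom_ext _ _]
  exact (prod_isPullback A' B).flip

/-- The product of two schemes over `S`. -/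
noncomputable abbrev Wc (U T : Over S) : Over S := Over.mk (pullback.fst U.hom T.hom ≫ U.hom)

/-- First projection. -/
noncomputable abbrev pc (U T : Over S) : Wc U T ⟶ U := Over.homMk (pullback.fst U.hom T.hom) rfl

/-- Second projection. -/
noncomputable abbrev qc (U T : Over S) : Wc U T ⟶ T :=
  Over.homMk (pullback.snd U.hom T.hom) pullback.condition.symm

theorem yon_prod_isPullback (U T : Over S) :
    IsPullback ((yon S).map (pc U T)) ((yon S).map (qc U T)) (isTerminalYon.from _) (isTerminalYon.from _) := by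
  let tU : U ⟶ Over.mk (𝟙 S) := Over.homMk U.hom (Category.comp_id _)
  let tT : T ⟶ Over.mk (𝟙 S) := Over.homMk T.hom (Category.comp_id _)
  have sqO : IsPullback (pc U T) (qc U T) tU tT :=
    IsPullback.of_map (Over.forget S) (by ext; exact pullback.condition) (IsPullback.of_hasPullback U.hom T.hom)
  rw [isTerminalYon.hom_ext (isTerminalYon.from ((yon S).obj U)) ((yon S).map tU),
    isTerminalYon.hom_ext (isTerminalYon.from ((yon S).obj T)) ((yon S).map tT)]
  exact sqO.map (yon S)

variable {X : Sp S} {U : Over S} (a : (yon S).obj U ⟶ X)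

/-- The chart of `X × h_T`. -/
noncomputable abbrev dc (T : Over S) : (yon S).obj (Wc U T) ⟶ X ⨯ (yon S).obj T :=
  Limits.prod.lift ((yon S).map (pc U T) ≫ a) ((yon S).map (qc U T))

theorem isPullback_dc (T : Over S) : IsPullback ((yon S).map (pc U T)) (dc a T) a Limits.prod.fst := by
  refine IsPullback.of_bot ?_ (Limits.prod.lift_fst _ _).symm (prod_isPullback X ((yon S).obj T))
  rw [show dc a T ≫ Limits.prod.snd = (yon S).map (qc U T) from Limits.prod.lift_snd _ _,
    show a ≫ isTerminalYon.from X = isTerminalYon.from _ from isTerminalYon.hom_ext _ _]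
  exact yon_prod_isPullback U T

variable {a}

theorem repWith_dc {P : MorphismProperty Scheme.{u}} (ha : RepWith P a) (T : Over S) : RepWith P (dc a T) :=
  MorphismProperty.of_isPullback (P := (RepWith P : MorphismProperty (Sp S))) (isPullback_dc a T) ha

/-- The comparison of the products of schemes. -/
noncomputable abbrev rc (U : Over S) {T T' : Over S} (m : T' ⟶ T) : Wc U T' ⟶ Wc U T :=
  Over.homMk (pullback.map U.hom T'.hom U.hom T.hom (𝟙 _) m.left (𝟙 _) (by simp) (by simp))
    (by
      change pullback.map U.hom T'.hom U.hom T.hom _ _ _ _ _ ≫ pullback.fst U.hom T.hom ≫ U.hom = _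
      rw [← Category.assoc, pullback.lift_fst, Category.comp_id]
      rfl)

theorem rc_pc (U : Over S) {T T' : Over S} (m : T' ⟶ T) : rc U m ≫ pc U T = pc U T' :=
  Over.OverMorphism.ext ((pullback.lift_fst _ _ _).trans (Category.comp_id _))

theorem rc_qc (U : Over S) {T T' : Over S} (m : T' ⟶ T) : rc U m ≫ qc U T = qc U T' ≫ m :=
  Over.OverMorphism.ext (pullback.lift_snd _ _ _)

theorem isPullback_rc_left (U : Over S) {T T' : Over S} (m : T' ⟶ T) :
    IsPullback (rc U m).left (qc U T').left (qc U T).left m.left := by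
  refine IsPullback.of_right (h₁₂ := pullback.fst U.hom T.hom) ?_ (congrArg CommaMorphism.left (rc_qc U m))
    (IsPullback.of_hasPullback U.hom T.hom)
  rw [show (rc U m).left ≫ pullback.fst U.hom T.hom = pullback.fst U.hom T'.hom from
    congrArg CommaMorphism.left (rc_pc U m), Over.w m]
  exact IsPullback.of_hasPullback U.hom T'.hom

variable (X) in
/-- `X × h_m`. -/
noncomputable abbrev prodM {T T' : Over S} (m : T' ⟶ T) : X ⨯ (yon S).obj T' ⟶ X ⨯ (yon S).obj T :=
  Limits.prod.map (𝟙 X) ((yon S).map m)

variable (a) in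
theorem isPullback_rc {T T' : Over S} (m : T' ⟶ T) :
    IsPullback ((yon S).map (rc U m)) (dc a T') (dc a T) (prodM X m) := by
  refine IsPullback.of_right ?_ ?_ (isPullback_dc a T)
  · rw [← Functor.map_comp, rc_pc, Limits.prod.map_fst, Category.comp_id]
    exact isPullback_dc a T'
  · apply Limits.prod.hom_ext
    · simp only [dc, Category.assoc, Limits.prod.lift_fst, Limits.prod.map_fst, Category.comp_id]
      rw [← Category.assoc, ← Functor.map_comp, rc_pc]
    · simp only [dc, Category.assoc, Limits.prod.lift_snd, Limits.prod.map_snd, prod.lift_snd_assoc]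
      rw [← Functor.map_comp, rc_qc, Functor.map_comp]

variable (a) in
theorem preimage_image_dc {T T' : Over S} (m : T' ⟶ T) (E : Set (Points (X ⨯ (yon S).obj T'))) :
    Points.ofPt (dc a T) ⁻¹' (Points.map (prodM X m) '' E) =
      (rc U m).left '' (Points.ofPt (dc a T') ⁻¹' E) := by
  ext w
  constructor
  · rintro ⟨z, hz, e⟩
    rw [Points.ofPt_eq_map_ofScheme] at e
    obtain ⟨w', hw1, hw2⟩ := AlgSpB.exists_of_isPullback (isPullback_rc a m).flip z (Points.ofScheme _ w) e
    refine ⟨Points.toScheme _ w', ?_, ?_⟩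
    · rw [Set.mem_preimage, Points.ofPt_eq_map_ofScheme, Points.ofScheme_toScheme, hw1]
      exact hz
    · rw [← Points.toScheme_ofPt, Points.ofPt_eq_map_ofScheme, Points.ofScheme_toScheme, hw2,
        Points.toScheme_ofScheme]
  · rintro ⟨w', hw', rfl⟩
    refine ⟨_, hw', ?_⟩
    rw [Points.map_ofPt, ← (isPullback_rc a m).w, AlgSpB.ofPt_map_comp]

variable (a) in
theorem preimage_singleton_dc {T T' : Over S} (m : T' ⟶ T) (w : ↥(Wc U T).left) :
    Points.map (prodM X m) ⁻¹' {Points.ofPt (dc a T) w} =
      Points.ofPt (dc a T') '' ((rc U m).left ⁻¹' {w}) := by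
  ext z
  constructor
  · intro e
    rw [Set.mem_preimage, Set.mem_singleton_iff, Points.ofPt_eq_map_ofScheme] at e
    obtain ⟨w', hw1, hw2⟩ := AlgSpB.exists_of_isPullback (isPullback_rc a m).flip z (Points.ofScheme _ w) e
    refine ⟨Points.toScheme _ w', ?_, ?_⟩
    · rw [Set.mem_preimage, Set.mem_singleton_iff, ← Points.toScheme_ofPt, Points.ofPt_eq_map_ofScheme,
        Points.ofScheme_toScheme, hw2, Points.toScheme_ofScheme]
    · rw [Points.ofPt_eq_map_ofScheme, Points.ofScheme_toScheme, hw1]
  · rintro ⟨w', (hw' : (rc U m).left w' = w), rfl⟩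
    rw [Set.mem_preimage, Set.mem_singleton_iff, Points.map_ofPt, ← (isPullback_rc a m).w,
      AlgSpB.ofPt_map_comp, hw']

variable (X : Space S) {T T' : Over S} (m : T' ⟶ T)

theorem exists_dc (z : Points (X.obj ⨯ (yon S).obj T)) :
    ∃ (U : Over S) (a : (yon S).obj U ⟶ X.obj) (w : ↥(Wc U T).left), RepWith @Etale a ∧
      Points.ofPt (dc a T) w = z := by
  obtain ⟨U, a, ha, has⟩ := X.property.atlas
  obtain ⟨w, hw⟩ := AlgSpB.surjective_ofPt (repWith_dc has T) z
  exact ⟨U, a, w, ha, hw⟩

theorem isOpenMap_prodM [UniversallyOpen m.left] : IsOpenMap (Points.map (prodM X.obj m)) := fun O hO => by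
  obtain ⟨U, a, ha, has⟩ := X.property.atlas
  have : UniversallyOpen (rc U m).left :=
    MorphismProperty.of_isPullback (P := @UniversallyOpen) (isPullback_rc_left U m).flip ‹_›
  rw [← (AlgSpB.isOpenQuotientMap_ofPt (repWith_dc ha T) (repWith_dc has T)).isQuotientMap.isOpen_preimage,
    preimage_image_dc a m]
  exact (rc U m).left.isOpenMap _ (hO.preimage (Points.continuous_ofPt _))

theorem isClosedMap_prodM [UniversallyClosed m.left] : IsClosedMap (Points.map (prodM X.obj m)) := fun C hC => by
  obtain ⟨U, a, ha, has⟩ := X.property.atlas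
  have : UniversallyClosed (rc U m).left :=
    MorphismProperty.of_isPullback (P := @UniversallyClosed) (isPullback_rc_left U m).flip ‹_›
  rw [← (AlgSpB.isOpenQuotientMap_ofPt (repWith_dc ha T) (repWith_dc has T)).isQuotientMap.isClosed_preimage,
    preimage_image_dc a m]
  exact (rc U m).left.isClosedMap _ (hC.preimage (Points.continuous_ofPt _))

theorem surjective_prodM [Surjective m.left] : Function.Surjective (Points.map (prodM X.obj m)) := fun z => by
  obtain ⟨U, a, w, -, rfl⟩ := exists_dc X z
  have : Surjective (rc U m).left :=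
    MorphismProperty.of_isPullback (P := @Surjective) (isPullback_rc_left U m).flip ‹_›
  obtain ⟨w', hw'⟩ := (rc U m).left.surjective w
  exact (Set.ext_iff.1 (preimage_singleton_dc a m w) (Points.ofPt (dc a T') w')).2 ⟨w', hw', rfl⟩ |>
    fun h => ⟨_, h⟩

theorem isConnected_fibre_prodM [GeometricallyConnected m.left] (z : Points (X.obj ⨯ (yon S).obj T)) :
    IsConnected (Points.map (prodM X.obj m) ⁻¹' {z}) := by
  obtain ⟨U, a, w, -, rfl⟩ := exists_dc X z
  have : GeometricallyConnected (rc U m).left :=
    MorphismProperty.of_isPullback (P := @GeometricallyConnected) (isPullback_rc_left U m).flip ‹_›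
  rw [preimage_singleton_dc]
  exact ((rc U m).left.isConnected_preimage_singleton w).image _ (Points.continuous_ofPt _).continuousOn

theorem isCompact_fibre_prodM [QuasiCompact m.left] (z : Points (X.obj ⨯ (yon S).obj T)) :
    IsCompact (Points.map (prodM X.obj m) ⁻¹' {z}) := by
  obtain ⟨U, a, w, -, rfl⟩ := exists_dc X z
  have : QuasiCompact (rc U m).left :=
    MorphismProperty.of_isPullback (P := @QuasiCompact) (isPullback_rc_left U m).flip ‹_›
  rw [preimage_singleton_dc]
  exact ((rc U m).left.isCompact_preimage_singleton w).image (Points.continuous_ofPt _)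

theorem finite_fibre_prodM [IsFinite m.left] (z : Points (X.obj ⨯ (yon S).obj T)) :
    (Points.map (prodM X.obj m) ⁻¹' {z}).Finite := by
  obtain ⟨U, a, w, -, rfl⟩ := exists_dc X z
  have : IsFinite (rc U m).left :=
    MorphismProperty.of_isPullback (P := @IsFinite) (isPullback_rc_left U m).flip ‹_›
  rw [preimage_singleton_dc]
  exact ((rc U m).left.finite_preimage_singleton w).image _

/-- `X × h_S = X`. -/
theorem isIso_fst : IsIso (Limits.prod.fst : X.obj ⨯ (yon S).obj (Over.mk (𝟙 S)) ⟶ X.obj) := by
  refine ⟨Limits.prod.lift (𝟙 _) (isTerminalYon.from _), ?_, Limits.prod.lift_fst _ _⟩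
  apply Limits.prod.hom_ext
  · rw [Category.assoc, Limits.prod.lift_fst, Category.comp_id, Category.id_comp]
  · exact isTerminalYon.hom_ext _ _

/-- The structure map of `T`. -/
noncomputable abbrev toBase (T : Over S) : T ⟶ Over.mk (𝟙 S) := Over.homMk T.hom (Category.comp_id _)

theorem map_fst_eq (T : Over S) :
    Points.map (Limits.prod.fst : X.obj ⨯ (yon S).obj T ⟶ X.obj) =
      Points.map (Limits.prod.fst : X.obj ⨯ (yon S).obj (Over.mk (𝟙 S)) ⟶ X.obj) ∘
        Points.map (prodM X.obj (toBase T)) := by
  funext z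
  rw [Function.comp_apply, ← Points.map_comp, Limits.prod.map_fst, Category.comp_id]

/-- `|X × h_S| = |X|`. -/
noncomputable def fstHomeo : Points (X.obj ⨯ (yon S).obj (Over.mk (𝟙 S))) ≃ₜ Points X.obj :=
  have := isIso_fst X
  let e := asIso (Limits.prod.fst : X.obj ⨯ (yon S).obj (Over.mk (𝟙 S)) ⟶ X.obj)
  { toFun := Points.map e.hom
    invFun := Points.map e.inv
    left_inv := fun z => by rw [← Points.map_comp, e.hom_inv_id, Points.map_id]
    right_inv := fun z => by rw [← Points.map_comp, e.inv_hom_id, Points.map_id]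
    continuous_toFun := Points.continuous_map _
    continuous_invFun := Points.continuous_map _ }

theorem map_fst_eq_homeo (T : Over S) :
    Points.map (Limits.prod.fst : X.obj ⨯ (yon S).obj T ⟶ X.obj) =
      fstHomeo X ∘ Points.map (prodM X.obj (toBase T)) :=
  map_fst_eq X T

end Groth.Agent.AlgSpCov.GeomConn
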